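import Groth.Prelude.Def_CInt
import Groth.Agent.L07.SchDenseExt
import Groth.Agent.L07.SchDenseFlat
import Groth.Agent.L26.AV.GroupSep
import Groth.Agent.L05.NeronOpen.Main
import Mathlib.AlgebraicGeometry.Group.Abelian

/-!
# Relatively schematically dense opens and maps to group schemes
-/

set_option autoImplicit false
set_option linter.style.haveILetI false
set_option backward.isDefEq.respectTransparency.types false

universe u

open CategoryTheory CategoryTheory.Limits MonoidalCategory CartesianMonoidalCategory MonObj GrpObj AlgebraicGeometry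

noncomputable section

namespace Groth.L08.BiratHom

variable {S : Scheme.{u}}

/-- `V` is schematically dense in `X` relatively to `S` -/
def RelDense (X : Over S) (V : X.left.Opens) : Prop :=
  ∀ (S' : Scheme.{u}) (g : S' ⟶ S), CInt.IsSchematicallyDense ((pullback.fst X.hom g) ⁻¹ᵁ V)

/-- an open as an object over the base -/
abbrev sub {X : Over S} (W : X.left.Opens) : Over S := Over.mk (W.ι ≫ X.hom)

/-- the inclusion of an open -/
abbrev incl {X : Over S} (W : X.left.Opens) : sub W ⟶ X := Over.homMk W.ι rfl

theorem exists_fac {X Y : Over S} (W : Y.left.Opens) (a : X ⟶ Y) (h : ∀ x, a.left x ∈ W) :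
    ∃ a' : X ⟶ sub W, a' ≫ incl W = a := by
  have hr : Set.range a.left ⊆ Set.range W.ι := by
    rw [Scheme.Opens.range_ι]
    rintro _ ⟨x, rfl⟩
    exact h x
  exact ⟨Over.homMk (IsOpenImmersion.lift W.ι a.left hr) (by
      show _ ≫ W.ι ≫ Y.hom = X.hom
      rw [IsOpenImmersion.lift_fac_assoc, Over.w a]),
    Over.OverMorphism.ext (IsOpenImmersion.lift_fac W.ι a.left hr)⟩

theorem schDense_self {X : Over S} {V : X.left.Opens} (hV : RelDense X V) : CInt.IsSchematicallyDense V := by
  have h := Groth.L07.SchDenseFlat.isSchematicallyDense_preimage (inv (pullback.fst X.hom (𝟙 S))) _ (hV S (𝟙 S))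
  rwa [← Scheme.Hom.comp_preimage, IsIso.inv_hom_id, Scheme.Hom.id_preimage] at h

/-- relative density passes to opens -/
theorem RelDense.restrict {X : Over S} {V : X.left.Opens} (hV : RelDense X V) (P : X.left.Opens) :
    RelDense (sub P) (P.ι ⁻¹ᵁ V) := by
  intro S' g
  let q : pullback (P.ι ≫ X.hom) g ⟶ pullback X.hom g :=
    pullback.map _ _ _ _ P.ι (𝟙 S') (𝟙 S) (by simp) (by simp)
  have h := Groth.L07.SchDenseFlat.isSchematicallyDense_preimage q _ (hV S' g)
  rw [← Scheme.Hom.comp_preimage, show q ≫ pullback.fst X.hom g = pullback.fst _ g ≫ P.ι from pullback.lift_fst _ _ _,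
    Scheme.Hom.comp_preimage] at h
  exact h

/-- maps into a group scheme agreeing on a relatively schematically dense open are equal -/
theorem eq_of_relDense {X Y : Over S} [GrpObj Y] {V : X.left.Opens} (hV : RelDense X V) (a b : X ⟶ Y)
    (hab : V.ι ≫ a.left = V.ι ≫ b.left) : a = b := by
  apply Over.OverMorphism.ext
  have h : a.left ≫ Y.hom = b.left ≫ Y.hom := by rw [Over.w a, Over.w b]
  let p := pullback.lift a.left b.left h
  let c := pullback.fst p (pullback.diagonal Y.hom)
  haveI : IsImmersion c := MorphismProperty.pullback_fst _ _ inferInstance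
  have hsurj : ∀ x, x ∈ Set.range c := by
    intro x
    let e := S.fromSpecResidueField (X.hom x)
    have hx : x ∈ Set.range (pullback.fst X.hom e) := by
      rw [Scheme.Pullback.range_fst, Scheme.range_fromSpecResidueField]
      rfl
    obtain ⟨x', hx'⟩ := hx
    let q := pullback.fst X.hom e
    letI : GrpObj ((Over.pullback e).obj Y) := Functor.grpObjObj
    haveI : IsSeparated (pullback.snd Y.hom e) :=
      Groth.Agent.AV.isSeparated_of_grpObj (k := S.residueField (X.hom x)) ((Over.pullback e).obj Y)
    let a' : pullback X.hom e ⟶ pullback Y.hom e := pullback.lift (q ≫ a.left) (pullback.snd _ _) (by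
      rw [Category.assoc, Over.w a, pullback.condition])
    let b' : pullback X.hom e ⟶ pullback Y.hom e := pullback.lift (q ≫ b.left) (pullback.snd _ _) (by
      rw [Category.assoc, Over.w b, pullback.condition])
    have e1 : a' = b' := by
      refine Groth.L07.SchDenseExt.eq_of_schDense (pullback.snd Y.hom e) (hV _ e) a' b' (by
        simp only [a', b']
        erw [pullback.lift_snd, pullback.lift_snd]) ?_
      apply pullback.hom_ext
      · simp only [a', b', Category.assoc, pullback.lift_fst]
        rw [← (isPullback_morphismRestrict q V).w_assoc, hab, (isPullback_morphismRestrict q V).w_assoc]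
      · simp only [a', b', Category.assoc, pullback.lift_snd]
    have e2 : q ≫ a.left = q ≫ b.left := by
      have e3 := congrArg (· ≫ pullback.fst Y.hom e) e1
      simp only [a', b'] at e3
      erw [pullback.lift_fst, pullback.lift_fst] at e3
      exact e3
    let r : pullback X.hom e ⟶ pullback p (pullback.diagonal Y.hom) := pullback.lift q (q ≫ a.left) (by
      apply pullback.hom_ext
      · simp only [p, Category.assoc, pullback.diagonal_fst, Category.comp_id]
        erw [pullback.lift_fst]
      · simp only [p, Category.assoc, pullback.diagonal_snd, Category.comp_id]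
        erw [pullback.lift_snd]
        exact e2.symm)
    refine ⟨r x', ?_⟩
    rw [← Scheme.Hom.comp_apply, show r ≫ c = q from pullback.lift_fst _ _ _]
    exact hx'
  haveI : IsClosedImmersion c := IsClosedImmersion.of_isPreimmersion c (by
    rw [Set.eq_univ_of_forall hsurj]; exact isClosed_univ)
  let l : (V : Scheme.{u}) ⟶ pullback p (pullback.diagonal Y.hom) := pullback.lift V.ι (V.ι ≫ a.left) (by
    apply pullback.hom_ext
    · simp only [p, Category.assoc, pullback.diagonal_fst, Category.comp_id]
      erw [pullback.lift_fst]
    · simp only [p, Category.assoc, pullback.diagonal_snd, Category.comp_id]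
      erw [pullback.lift_snd]
      exact hab.symm)
  haveI : IsIso c := IsClosedImmersion.isIso_of_ker_eq c (𝟙 X.left) c (Category.comp_id _) (by
    rw [Groth.Agent.NeronL.ker_eq_bot_of_schDense (schDense_self hV) c l (pullback.lift_fst _ _ _)]
    refine le_antisymm bot_le fun W => ?_
    intro s hs
    rw [Scheme.Hom.ker_apply, RingHom.mem_ker] at hs
    simp only [Scheme.IdealSheafData.ideal_bot, Pi.bot_apply, Ideal.mem_bot]
    exact hs)
  have h0 := pullback.condition (f := p) (g := pullback.diagonal Y.hom)
  have ha := congrArg (· ≫ pullback.fst Y.hom Y.hom) h0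
  have hb := congrArg (· ≫ pullback.snd Y.hom Y.hom) h0
  simp only [Category.assoc, pullback.diagonal_fst, pullback.diagonal_snd, Category.comp_id, p,
    pullback.lift_fst, pullback.lift_snd] at ha hb
  exact (cancel_epi c).mp (ha.trans hb.symm)

/-- relatively schematically dense opens are dense in every pullback along a field point -/
theorem RelDense.dense {X : Over S} {V : X.left.Opens} (hV : RelDense X V) {S' : Scheme.{u}} (g : S' ⟶ S) :
    Dense (((pullback.fst X.hom g) ⁻¹ᵁ V : (pullback X.hom g).Opens) : Set ↥(pullback X.hom g)) :=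
  Groth.L05.NeronOpen.dense_of_schDense _ (hV S' g)

end Groth.L08.BiratHom
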