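import Groth.Agent.L08.BiratHom.Dense
import Mathlib.AlgebraicGeometry.Sites.Fpqc

/-!
# Extension of homomorphisms from schematically dense opens (SGA3 XVIII)
-/

set_option autoImplicit false
set_option linter.style.haveILetI false
set_option backward.isDefEq.respectTransparency.types false

universe u

open CategoryTheory CategoryTheory.Limits MonoidalCategory CartesianMonoidalCategory MonObj GrpObj AlgebraicGeometry
open scoped CategoryTheory.Hom

noncomputable section

namespace Groth.L08.BiratHom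

variable {S : Scheme.{u}} {G H : Over S} [GrpObj G] [GrpObj H]

/-- density in all fibres of the first projection -/
def FDense (X : Over S) (W : (X ⊗ G).left.Opens) : Prop :=
  ∀ x : X.left, Dense ((Subtype.val ⁻¹' (W : Set (X ⊗ G).left)) : Set ((fst X G).left ⁻¹' {x} : Set _))

/-- a cover -/
structure Cov {X X' : Over S} (π : X' ⟶ X) : Prop where
  flat : Flat π.left
  lfp : LocallyOfFinitePresentation π.left
  surj : Surjective π.left

theorem Cov.epi {X X' : Over S} {π : X' ⟶ X} (h : Cov π) : Epi π := by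
  haveI := h.flat; haveI := h.surj
  haveI : Epi π.left := Flat.epi_of_flat_of_surjective π.left
  exact Over.epi_of_epi_left π

omit [GrpObj H] in
theorem Cov.comp {X X' X'' : Over S} {π : X' ⟶ X} {π' : X'' ⟶ X'} (h : Cov π) (h' : Cov π') : Cov (π' ≫ π) := by
  haveI := h.flat; haveI := h.surj; haveI := h.lfp; haveI := h'.flat; haveI := h'.surj; haveI := h'.lfp
  exact ⟨by rw [Over.comp_left]; infer_instance, by rw [Over.comp_left]; infer_instance,
    by rw [Over.comp_left]; infer_instance⟩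

omit [GrpObj G] in
theorem fDense_snd {U : G.left.Opens} (hU : RelDense G U) (X : Over S) :
    FDense X ((snd X G).left ⁻¹ᵁ U) := by
  intro x
  let e := X.left.fromSpecResidueField x
  let g := e ≫ X.hom
  let q : pullback G.hom g ⟶ pullback X.hom G.hom :=
    pullback.lift (pullback.snd G.hom g ≫ e) (pullback.fst G.hom g) (by
      rw [Category.assoc]; exact pullback.condition.symm)
  have q1 : q ≫ (fst X G).left = pullback.snd G.hom g ≫ e := pullback.lift_fst _ _ _
  have q2 : q ≫ (snd X G).left = pullback.fst G.hom g := pullback.lift_snd _ _ _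
  have hpb : IsPullback q (pullback.snd G.hom g) (fst X G).left e := by
    refine IsPullback.of_right ?_ q1 (IsPullback.of_hasPullback X.hom G.hom).flip
    show IsPullback (q ≫ (snd X G).left) (pullback.snd G.hom g) G.hom (e ≫ X.hom)
    rw [q2]
    exact IsPullback.of_hasPullback G.hom g
  have hr : Set.range q = (fst X G).left ⁻¹' {x} := by
    rw [← hpb.isoPullback_hom_fst, Scheme.Hom.comp_base, TopCat.coe_comp, Set.range_comp,
      Set.range_eq_univ.2 (hpb.isoPullback.hom.surjective), Set.image_univ, Scheme.Pullback.range_fst,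
      Scheme.range_fromSpecResidueField]
  let q' : ↥(pullback G.hom g) → ((fst X G).left ⁻¹' {x} : Set _) := fun z => ⟨q z, hr ▸ ⟨z, rfl⟩⟩
  have hsur : Function.Surjective q' := fun ⟨w, hw⟩ => by
    obtain ⟨z, rfl⟩ := hr.symm ▸ hw
    exact ⟨z, rfl⟩
  have hc : Continuous q' := q.continuous.subtype_mk _
  refine (hsur.denseRange.dense_image hc (hU.dense g)).mono ?_
  rintro _ ⟨z, hz, rfl⟩
  show (snd X G).left (q z) ∈ U
  rw [← Scheme.Hom.comp_apply, q2]
  exact hz

theorem FDense.inf {X : Over S} {W W' : (X ⊗ G).left.Opens} (h : FDense X W) (h' : FDense X W') :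
    FDense X (W ⊓ W') := fun x =>
  (h x).inter_of_isOpen_left (h' x) (W.2.preimage continuous_subtype_val)

omit [GrpObj G] in
theorem FDense.comap {X : Over S} {W : (X ⊗ G).left.Opens} (h : FDense X W) (φ : X ⊗ G ≅ X ⊗ G)
    (hφ : φ.hom ≫ fst X G = fst X G) : FDense X (φ.hom.left ⁻¹ᵁ W) := by
  intro x
  let e := Scheme.homeoOfIso ((Over.forget S).mapIso φ)
  let e' : ((fst X G).left ⁻¹' {x} : Set _) ≃ₜ ((fst X G).left ⁻¹' {x} : Set _) :=
    e.subtype fun z => by
      show (fst X G).left z = x ↔ (fst X G).left (φ.hom.left z) = x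
      rw [← Scheme.Hom.comp_apply, ← Over.comp_left, hφ]
  exact (h x).preimage e'.isOpenMap

variable [Flat G.hom] [LocallyOfFinitePresentation G.hom]

/-- **generic points after covers** -/
theorem FDense.exists_cov {X : Over S} {W : (X ⊗ G).left.Opens} (h : FDense X W) :
    ∃ (X' : Over S) (π : X' ⟶ X) (c : X' ⟶ G), Cov π ∧ ∀ z, (lift π c).left z ∈ W := by
  refine ⟨sub W, incl W ≫ fst X G, incl W ≫ snd X G, ?_, fun z => ?_⟩
  · haveI : Flat (fst X G).left := MorphismProperty.pullback_fst _ _ ‹Flat G.hom›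
    haveI : LocallyOfFinitePresentation (fst X G).left :=
      MorphismProperty.pullback_fst _ _ ‹LocallyOfFinitePresentation G.hom›
    refine ⟨?_, ?_, ⟨fun x => ?_⟩⟩
    · show Flat (W.ι ≫ (fst X G).left); infer_instance
    · show LocallyOfFinitePresentation (W.ι ≫ (fst X G).left); infer_instance
    have hne : ((fst X G).left ⁻¹' {x}).Nonempty := ⟨(lift (𝟙 X) (1 : X ⟶ G)).left x, by
      rw [Set.mem_preimage, ← Scheme.Hom.comp_apply, ← Over.comp_left, lift_fst]; rfl⟩
    haveI := hne.to_subtype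
    obtain ⟨⟨z, hz⟩, hzW⟩ := (h x).nonempty
    refine ⟨⟨z, hzW⟩, ?_⟩
    show (fst X G).left (W.ι ⟨z, hzW⟩) = x
    exact hz
  · rw [show lift (incl W ≫ fst X G) (incl W ≫ snd X G) = incl W from by ext <;> simp]
    exact z.2

/-- `c ↦ a * c * b` -/
def tr {X : Over S} (a b : X ⟶ G) : X ⊗ G ≅ X ⊗ G where
  hom := lift (fst X G) ((fst X G ≫ a) * snd X G * (fst X G ≫ b))
  inv := lift (fst X G) ((fst X G ≫ a⁻¹) * snd X G * (fst X G ≫ b⁻¹))
  hom_inv_id := by
    rw [comp_lift, lift_fst, MonObj.comp_mul, MonObj.comp_mul, lift_snd, ← Category.assoc, ← Category.assoc, lift_fst,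
      GrpObj.comp_inv, GrpObj.comp_inv]
    conv_rhs => rw [← lift_fst_snd]
    congr 1
    group
  inv_hom_id := by
    rw [comp_lift, lift_fst, MonObj.comp_mul, MonObj.comp_mul, lift_snd, ← Category.assoc, ← Category.assoc, lift_fst,
      GrpObj.comp_inv, GrpObj.comp_inv]
    conv_rhs => rw [← lift_fst_snd]
    congr 1
    group

/-- `c ↦ c⁻¹` -/
def invSnd (X : Over S) : X ⊗ G ≅ X ⊗ G where
  hom := lift (fst X G) (snd X G)⁻¹
  inv := lift (fst X G) (snd X G)⁻¹
  hom_inv_id := by rw [comp_lift, lift_fst, GrpObj.comp_inv, lift_snd, _root_.inv_inv, lift_fst_snd]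
  inv_hom_id := by rw [comp_lift, lift_fst, GrpObj.comp_inv, lift_snd, _root_.inv_inv, lift_fst_snd]

/-- points landing in an open -/
def InOp (U : G.left.Opens) {X : Over S} (a : X ⟶ G) : Prop := ∀ x, a.left x ∈ U

omit [GrpObj G] [Flat G.hom] [LocallyOfFinitePresentation G.hom] in
theorem InOp.precomp {U : G.left.Opens} {X X' : Over S} {a : X ⟶ G} (h : InOp U a) (π : X' ⟶ X) :
    InOp U (π ≫ a) := fun z => by
  rw [Over.comp_left, Scheme.Hom.comp_apply]
  exact h _

variable {U : G.left.Opens}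

/-- the locus of `c` with `a c b ∈ U` -/
def cPos (U : G.left.Opens) {X : Over S} (a b : X ⟶ G) : (X ⊗ G).left.Opens :=
  (tr a b).hom.left ⁻¹ᵁ ((snd X G).left ⁻¹ᵁ U)

/-- the locus of `c` with `a c⁻¹ b ∈ U` -/
def cNeg (U : G.left.Opens) {X : Over S} (a b : X ⟶ G) : (X ⊗ G).left.Opens :=
  (invSnd X).hom.left ⁻¹ᵁ cPos U a b

omit [Flat G.hom] [LocallyOfFinitePresentation G.hom] in
theorem fDense_cPos (hU : RelDense G U) {X : Over S} (a b : X ⟶ G) : FDense X (cPos U a b) :=
  (fDense_snd hU X).comap _ (lift_fst _ _)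

omit [Flat G.hom] [LocallyOfFinitePresentation G.hom] in
theorem fDense_cNeg (hU : RelDense G U) {X : Over S} (a b : X ⟶ G) : FDense X (cNeg U a b) :=
  (fDense_cPos hU a b).comap _ (lift_fst _ _)

omit [Flat G.hom] [LocallyOfFinitePresentation G.hom] in
theorem inOp_of_cPos {X X' : Over S} {a b : X ⟶ G} {π : X' ⟶ X} {c : X' ⟶ G}
    (h : ∀ z, (lift π c).left z ∈ cPos U a b) : InOp U ((π ≫ a) * c * (π ≫ b)) := fun z => by
  have e : lift π c ≫ (tr a b).hom ≫ snd X G = (π ≫ a) * c * (π ≫ b) := by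
    simp only [tr, lift_snd, MonObj.comp_mul, ← Category.assoc, lift_fst]
  have := h z
  rw [← e, Over.comp_left, Over.comp_left, Scheme.Hom.comp_apply, Scheme.Hom.comp_apply]
  exact this

omit [Flat G.hom] [LocallyOfFinitePresentation G.hom] in
theorem inOp_of_cNeg {X X' : Over S} {a b : X ⟶ G} {π : X' ⟶ X} {c : X' ⟶ G}
    (h : ∀ z, (lift π c).left z ∈ cNeg U a b) : InOp U ((π ≫ a) * c⁻¹ * (π ≫ b)) := by
  refine inOp_of_cPos fun z => ?_
  have e : lift π c ≫ (invSnd X).hom = lift π c⁻¹ := by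
    simp only [invSnd, comp_lift, lift_fst, GrpObj.comp_inv, lift_snd]
  rw [← e, Over.comp_left, Scheme.Hom.comp_apply]
  exact h z

/-- every point is a product of two points of a dense open after a cover -/
theorem exists_factor (hU : RelDense G U) {X : Over S} (g : X ⟶ G) :
    ∃ (X' : Over S) (π : X' ⟶ X) (a b : X' ⟶ G), Cov π ∧ InOp U a ∧ InOp U b ∧ π ≫ g = a * b := by
  obtain ⟨X', π, c, hπ, hc⟩ := ((fDense_cPos hU (1 : X ⟶ G) 1).inf (fDense_cNeg hU (1 : X ⟶ G) g)).exists_cov
  have h1 := inOp_of_cPos fun z => (hc z).1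
  have h2 := inOp_of_cNeg fun z => (hc z).2
  rw [MonObj.comp_one, _root_.one_mul, _root_.mul_one] at h1
  rw [MonObj.comp_one, _root_.one_mul] at h2
  exact ⟨X', π, c, c⁻¹ * (π ≫ g), hπ, h1, h2, (mul_inv_cancel_left _ _).symm⟩

variable (U) (φ : sub U ⟶ H)

/-- the value of the partial map at a point of the open -/
def val {X : Over S} (a : X ⟶ G) (ha : InOp U a) : X ⟶ H := (exists_fac U a ha).choose ≫ φ

omit [GrpObj G] [GrpObj H] [Flat G.hom] [LocallyOfFinitePresentation G.hom] in
theorem val_eq {X : Over S} (a : X ⟶ G) (ha : InOp U a) (a' : X ⟶ sub U) (e : a' ≫ incl U = a) :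
    a' ≫ φ = val U φ a ha := by
  haveI : Mono (incl U) := (Over.forget S).mono_of_mono_map (inferInstanceAs (Mono U.ι))
  have h := (exists_fac U a ha).choose_spec
  rw [val, ← (cancel_mono (incl U)).1 (h.trans e.symm)]

omit [GrpObj G] [GrpObj H] [Flat G.hom] [LocallyOfFinitePresentation G.hom] in
theorem comp_val {X X' : Over S} (π : X' ⟶ X) (a : X ⟶ G) (ha : InOp U a) :
    π ≫ val U φ a ha = val U φ (π ≫ a) (ha.precomp π) := by
  rw [val, ← Category.assoc, val_eq]
  rw [Category.assoc, (exists_fac U a ha).choose_spec]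

omit [GrpObj G] [GrpObj H] [Flat G.hom] [LocallyOfFinitePresentation G.hom] in
theorem val_congr {X : Over S} {a b : X ⟶ G} (e : a = b) (ha : InOp U a) (hb : InOp U b) :
    val U φ a ha = val U φ b hb := by subst e; rfl

/-- the partial map is multiplicative -/
def MulOn : Prop :=
  ∀ (X : Over S) (a b : X ⟶ G) (ha : InOp U a) (hb : InOp U b) (hab : InOp U (a * b)),
    val U φ (a * b) hab = val U φ a ha * val U φ b hb

variable {U φ}

omit [Flat G.hom] [LocallyOfFinitePresentation G.hom] in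
theorem MulOn.eq (hm : MulOn U φ) {X : Over S} {a b c : X ⟶ G} (ha : InOp U a) (hb : InOp U b) (hc : InOp U c)
    (e : a * b = c) : val U φ c hc = val U φ a ha * val U φ b hb := by
  subst e
  exact hm X a b ha hb hc

theorem val_mul_congr (hU : RelDense G U) (hm : MulOn U φ) {X : Over S} {a b a' b' : X ⟶ G} (ha : InOp U a)
    (hb : InOp U b) (ha' : InOp U a') (hb' : InOp U b') (e : a * b = a' * b') :
    val U φ a ha * val U φ b hb = val U φ a' ha' * val U φ b' hb' := by
  obtain ⟨X', π, c, hπ, hc⟩ := ((((fDense_cPos hU (1 : X ⟶ G) 1).inf (fDense_cPos hU b 1)).inf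
    (fDense_cPos hU b' 1)).inf (fDense_cPos hU (a * b) 1)).exists_cov
  have h1 := inOp_of_cPos fun z => (hc z).1.1.1
  have h2 := inOp_of_cPos fun z => (hc z).1.1.2
  have h3 := inOp_of_cPos fun z => (hc z).1.2
  have h4 := inOp_of_cPos fun z => (hc z).2
  simp only [MonObj.comp_one, _root_.one_mul, _root_.mul_one] at h1 h2 h3 h4
  haveI := hπ.epi
  have q1 := hm.eq (ha.precomp π) h2 h4 (by rw [MonObj.comp_mul, _root_.mul_assoc])
  have q2 := hm.eq (ha'.precomp π) h3 h4 (by rw [e, MonObj.comp_mul, _root_.mul_assoc])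
  have p1 := hm.eq (hb.precomp π) h1 h2 rfl
  have p2 := hm.eq (hb'.precomp π) h1 h3 rfl
  rw [p1] at q1
  rw [p2, q1, ← _root_.mul_assoc, ← _root_.mul_assoc] at q2
  rw [← cancel_epi π, MonObj.comp_mul, MonObj.comp_mul, comp_val, comp_val, comp_val, comp_val]
  exact mul_right_cancel q2

/-- the pairs of points of `U` -/
def pairs (U : G.left.Opens) : (G ⊗ G).left.Opens := (fst G G).left ⁻¹ᵁ U ⊓ (snd G G).left ⁻¹ᵁ U

theorem exists_map (hU : RelDense G U) (hm : MulOn U φ) :
    ∃ f : G ⟶ H, ∀ (X : Over S) (a b : X ⟶ G) (ha : InOp U a) (hb : InOp U b),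
      (a * b) ≫ f = val U φ a ha * val U φ b hb := by
  let Q := sub (pairs U)
  let a₀ : Q ⟶ G := incl (pairs U) ≫ fst G G
  let b₀ : Q ⟶ G := incl (pairs U) ≫ snd G G
  have ha₀ : InOp U a₀ := fun z => z.2.1
  have hb₀ : InOp U b₀ := fun z => z.2.2
  let p : Q ⟶ G := a₀ * b₀
  let F : Q ⟶ H := val U φ a₀ ha₀ * val U φ b₀ hb₀
  have hlift : ∀ (X : Over S) (a b : X ⟶ G) (_ : InOp U a) (_ : InOp U b),
      ∃ q : X ⟶ Q, q ≫ a₀ = a ∧ q ≫ b₀ = b := by
    intro X a b ha hb
    obtain ⟨q, hq⟩ := exists_fac (pairs U) (lift a b) fun x => by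
      refine ⟨?_, ?_⟩
      · show (fst G G).left ((lift a b).left x) ∈ U
        rw [← Scheme.Hom.comp_apply, ← Over.comp_left, lift_fst]; exact ha x
      · show (snd G G).left ((lift a b).left x) ∈ U
        rw [← Scheme.Hom.comp_apply, ← Over.comp_left, lift_snd]; exact hb x
    exact ⟨q, by rw [← lift_fst a b, ← hq, Category.assoc], by rw [← lift_snd a b, ← hq, Category.assoc]⟩
  haveI hs : Surjective p.left := by
    obtain ⟨X', π, a, b, hπ, ha, hb, e⟩ := exists_factor hU (𝟙 G)
    obtain ⟨q, hqa, hqb⟩ := hlift X' a b ha hb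
    have hq : q ≫ p = π := by rw [MonObj.comp_mul, hqa, hqb, ← e, Category.comp_id]
    haveI := hπ.surj
    haveI : Surjective (q.left ≫ p.left) := by rw [← Over.comp_left, hq]; infer_instance
    exact Surjective.of_comp q.left p.left
  let shear : G ⊗ G ≅ G ⊗ G := tr (𝟙 G) 1
  have hp : p = incl (pairs U) ≫ shear.hom ≫ snd G G := by
    simp only [p, shear, tr, lift_snd, MonObj.comp_mul, Category.comp_id, MonObj.comp_one, _root_.mul_one]
    rfl
  haveI : Flat (snd G G).left := MorphismProperty.pullback_snd _ _ ‹Flat G.hom›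
  haveI : LocallyOfFinitePresentation (snd G G).left :=
    MorphismProperty.pullback_snd _ _ ‹LocallyOfFinitePresentation G.hom›
  haveI : IsIso shear.hom.left := inferInstanceAs (IsIso ((Over.forget S).map shear.hom))
  haveI : Flat p.left := by rw [hp]; show Flat ((pairs U).ι ≫ shear.hom.left ≫ (snd G G).left); infer_instance
  haveI : LocallyOfFinitePresentation p.left := by
    rw [hp]; show LocallyOfFinitePresentation ((pairs U).ι ≫ shear.hom.left ≫ (snd G G).left); infer_instance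
  have hF : ∀ (W : Over S) (a b : W ⟶ Q), a ≫ p = b ≫ p → a ≫ F = b ≫ F := fun W a b e => by
    simp only [p, MonObj.comp_mul] at e
    simp only [F, MonObj.comp_mul, comp_val]
    exact val_mul_congr hU hm _ _ _ _ e
  have hc : ∀ {W : Scheme.{u}} (a b : W ⟶ Q.left), a ≫ p.left = b ≫ p.left → a ≫ F.left = b ≫ F.left := by
    intro W a b e
    have hw : b ≫ Q.hom = a ≫ Q.hom := by rw [← Over.w p, ← Category.assoc, ← e, Category.assoc]
    exact congrArg (fun m => m.left) (hF (Over.mk (a ≫ Q.hom)) (Over.homMk a) (Over.homMk b hw)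
      (Over.OverMorphism.ext e))
  obtain ⟨d, hd⟩ : ∃ d : G.left ⟶ H.left, p.left ≫ d = F.left := ⟨_, EffectiveEpi.fac p.left F.left hc⟩
  have hw : d ≫ H.hom = G.hom := by
    haveI : Epi p.left := Flat.epi_of_flat_of_surjective p.left
    rw [← cancel_epi p.left, reassoc_of% hd, Over.w F, Over.w p]
  have hf : p ≫ Over.homMk d hw = F := Over.OverMorphism.ext hd
  refine ⟨Over.homMk d hw, fun X a b ha hb => ?_⟩
  obtain ⟨q, hqa, hqb⟩ := hlift X a b ha hb
  have := congrArg (q ≫ ·) hf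
  simp only [p, F, MonObj.comp_mul, comp_val] at this
  rw [← Category.assoc, MonObj.comp_mul] at this
  calc (a * b) ≫ Over.homMk d hw = ((q ≫ a₀) * (q ≫ b₀)) ≫ Over.homMk d hw := by rw [hqa, hqb]
    _ = _ := this.trans (congrArg₂ (· * ·) (val_congr U φ hqa _ _) (val_congr U φ hqb _ _))

/-- **extension of a partial homomorphism** -/
theorem existsUnique_hom (hU : RelDense G U) (hm : MulOn U φ) :
    ∃! f : G ⟶ H, IsMonHom f ∧ incl U ≫ f = φ := by
  obtain ⟨f, hf⟩ := exists_map hU hm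
  have hval : ∀ (X : Over S) (u : X ⟶ G) (hu : InOp U u), u ≫ f = val U φ u hu := by
    intro X u hu
    obtain ⟨X', π, a, b, hπ, ha, hb, e⟩ := exists_factor hU u
    haveI := hπ.epi
    rw [← cancel_epi π, ← Category.assoc, e, hf _ a b ha hb, comp_val,
      hm.eq ha hb (hu.precomp π) e.symm]
  have hmul₁ : ∀ (X : Over S) (a b u : X ⟶ G), InOp U a → InOp U b → InOp U u →
      (a * b * u) ≫ f = ((a * b) ≫ f) * (u ≫ f) := by
    intro X a b u ha hb hu
    obtain ⟨X', π, c, hπ, hc⟩ := ((((fDense_cPos hU (1 : X ⟶ G) 1).inf (fDense_cPos hU a 1)).inf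
      (fDense_cNeg hU (1 : X ⟶ G) b)).inf (fDense_cNeg hU (1 : X ⟶ G) (b * u))).exists_cov
    have h1 := inOp_of_cPos fun z => (hc z).1.1.1
    have h2 := inOp_of_cPos fun z => (hc z).1.1.2
    have h3 := inOp_of_cNeg fun z => (hc z).1.2
    have h4 := inOp_of_cNeg fun z => (hc z).2
    simp only [MonObj.comp_one, _root_.one_mul, _root_.mul_one] at h1 h2 h3 h4
    haveI := hπ.epi
    rw [← cancel_epi π, MonObj.comp_mul, hf _ a b ha hb, hval _ u hu, MonObj.comp_mul, comp_val, comp_val, comp_val,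
      ← Category.assoc]
    have e : π ≫ (a * b * u) = ((π ≫ a) * c) * (c⁻¹ * (π ≫ (b * u))) := by
      simp only [MonObj.comp_mul]; group
    rw [e, hf _ _ _ h2 h4, hm.eq (ha.precomp π) h1 h2 rfl,
      hm.eq h3 (hu.precomp π) h4 (by rw [MonObj.comp_mul, _root_.mul_assoc]),
      hm.eq h1 h3 (hb.precomp π) (mul_inv_cancel_left _ _)]
    group
  have hmul₂ : ∀ (X : Over S) (g u : X ⟶ G), InOp U u → (g * u) ≫ f = (g ≫ f) * (u ≫ f) := by
    intro X g u hu
    obtain ⟨X', π, a, b, hπ, ha, hb, e⟩ := exists_factor hU g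
    haveI := hπ.epi
    rw [← cancel_epi π, MonObj.comp_mul, ← Category.assoc, ← Category.assoc, ← Category.assoc, MonObj.comp_mul, e]
    exact hmul₁ _ a b _ ha hb (hu.precomp π)
  have hmul : ∀ (X : Over S) (g h : X ⟶ G), (g * h) ≫ f = (g ≫ f) * (h ≫ f) := by
    intro X g h
    obtain ⟨X', π, a, b, hπ, ha, hb, e⟩ := exists_factor hU h
    haveI := hπ.epi
    rw [← cancel_epi π, MonObj.comp_mul, ← Category.assoc, ← Category.assoc, ← Category.assoc, MonObj.comp_mul, e,
      ← _root_.mul_assoc, hmul₂ _ _ b hb, hmul₂ _ _ a ha, hmul₂ _ a b hb, _root_.mul_assoc]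
  have hφ : incl U ≫ f = φ := by
    have hin : InOp U (incl U) := fun z => z.2
    rw [hval _ _ hin, ← val_eq U φ _ hin (𝟙 _) (Category.id_comp _), Category.id_comp]
  refine ⟨f, ⟨⟨?_, ?_⟩, hφ⟩, ?_⟩
  · have h1 := hmul (𝟙_ (Over S)) 1 1
    rw [_root_.one_mul, left_eq_mul] at h1
    rw [MonObj.one_eq_one, MonObj.one_eq_one]
    exact h1
  · rw [show μ[G] = fst G G * snd G G by rw [Hom.mul_def, lift_fst_snd, Category.id_comp], hmul, Hom.mul_def, ← lift_map, lift_fst_snd,
      Category.id_comp]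
  · rintro g ⟨hg, hgφ⟩
    have hgu : ∀ (X : Over S) (u : X ⟶ G) (hu : InOp U u), u ≫ g = val U φ u hu := fun X u hu => by
      obtain ⟨u', hu'⟩ := exists_fac U u hu
      rw [← val_eq U φ u hu u' hu', ← hgφ, ← hu', Category.assoc]
    obtain ⟨X', π, a, b, hπ, ha, hb, e⟩ := exists_factor hU (𝟙 G)
    haveI := hπ.epi
    haveI := hg
    rw [Category.comp_id] at e
    rw [← cancel_epi π, e, MonObj.mul_comp, hgu _ a ha, hgu _ b hb, hf _ a b ha hb]

end Groth.L08.BiratHom
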